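import Cfsg.Prelude.Def_KGroupFacts
import Mathlib.GroupTheory.Index
import Mathlib.GroupTheory.QuotientGroup.Basic
import Mathlib.GroupTheory.Subgroup.Center
import Mathlib.GroupTheory.Abelianization.Defs
import Mathlib.Tactic.Group
set_option linter.all false

/-!
# Generalities on `Out G` (helper55)

* `card_out_eq_one` : every automorphism inner → `Nat.card (Out G) = 1`;
* `card_out_eq_two` : `|Aut G : Inn G| ∈ {1, 2}` and one automorphism is not inner → `Nat.card (Out G) = 2`;
* `centerQuot α` : the automorphism of `L ⧸ center L` induced by `α : MulAut L`;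
* `centerQuot_not_inner` : if every homomorphism `L →* center L` is trivial (e.g. `L` perfect) and `α` is not inner then
  `centerQuot α` is not inner.
* `card_out_congr` : `Out` and isomorphisms.
-/

set_option autoImplicit false

namespace Cfsg.Agent.H55.OutGen

open Subgroup

universe u v

variable {G : Type u} [Group G]

theorem card_out_eq_index : Nat.card (Cfsg.Out G) = (MulAut.conj : G →* MulAut G).range.index := rfl

/-- every automorphism inner -/
theorem card_out_eq_one (h : ∀ α : MulAut G, ∃ k : G, α = MulAut.conj k) : Nat.card (Cfsg.Out G) = 1 := by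
  rw [card_out_eq_index, index_eq_one, eq_top_iff]
  intro α _
  obtain ⟨k, hk⟩ := h α
  exact ⟨k, hk.symm⟩

/-- index one or two and a noninner automorphism -/
theorem card_out_eq_two
    (h : (MulAut.conj : G →* MulAut G).range.index = 1 ∨ (MulAut.conj : G →* MulAut G).range.index = 2)
    {α : MulAut G} (hα : ∀ k : G, α ≠ MulAut.conj k) : Nat.card (Cfsg.Out G) = 2 := by
  rw [card_out_eq_index]
  rcases h with h | h
  · exfalso
    rw [index_eq_one] at h
    have h1 : α ∈ (MulAut.conj : G →* MulAut G).range := by rw [h]; trivial
    obtain ⟨k, hk⟩ := h1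
    exact hα k hk.symm
  · exact h

/-- the automorphism groups of isomorphic groups -/
theorem index_range_conj_congr {H : Type v} [Group H] (e : G ≃* H) :
    (MulAut.conj : G →* MulAut G).range.index = (MulAut.conj : H →* MulAut H).range.index := by
  have h : (MulAut.conj : G →* MulAut G).range =
      (MulAut.conj : H →* MulAut H).range.comap (MulAut.congr e).toMonoidHom := by
    ext α
    rw [mem_comap]
    constructor
    · rintro ⟨k, rfl⟩
      refine ⟨e k, ?_⟩
      ext x
      simp [MulAut.congr]
    · rintro ⟨k, hk⟩
      refine ⟨e.symm k, ?_⟩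
      ext x
      have h1 := congrArg (fun f : MulAut H => e.symm (f (e x))) hk
      simp only [MulAut.conj_apply, map_mul, map_inv, MulEquiv.symm_apply_apply] at h1
      rw [MulAut.conj_apply, h1]
      simp [MulAut.congr]
  rw [h, index_comap_of_surjective _ (MulAut.congr e).surjective]

/-- `Out` depends only on the isomorphism type. -/
theorem card_out_congr {H : Type v} [Group H] (e : G ≃* H) : Nat.card (Cfsg.Out G) = Nat.card (Cfsg.Out H) := by
  rw [card_out_eq_index, card_out_eq_index, index_range_conj_congr e]

/-! ### central quotients -/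

variable {L : Type u} [Group L]

theorem map_center_eq {H : Type v} [Group H] (e : L ≃* H) :
    (center L).map (e : L →* H) = center H := by
  ext x
  rw [mem_map, mem_center_iff]
  constructor
  · rintro ⟨y, hy, rfl⟩ g
    rw [mem_center_iff] at hy
    have h := congrArg e (hy (e.symm g))
    rw [map_mul, map_mul, e.apply_symm_apply] at h
    exact h
  · intro h
    refine ⟨e.symm x, ?_, e.apply_symm_apply x⟩
    rw [mem_center_iff]
    intro g
    apply e.injective
    rw [map_mul, map_mul, e.apply_symm_apply]
    exact h (e g)

/-- isomorphic groups have isomorphic central quotients -/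
noncomputable def centerQuotCongr {H : Type v} [Group H] (e : L ≃* H) : L ⧸ center L ≃* H ⧸ center H :=
  QuotientGroup.congr (center L) (center H) e (map_center_eq e)

theorem centerQuotCongr_mk {H : Type v} [Group H] (e : L ≃* H) (x : L) :
    centerQuotCongr e (QuotientGroup.mk x) = QuotientGroup.mk (e x) := rfl

/-- the automorphism of `L ⧸ center L` induced by an automorphism of `L` -/
noncomputable def centerQuot (α : MulAut L) : MulAut (L ⧸ center L) := centerQuotCongr α

theorem centerQuot_mk (α : MulAut L) (x : L) :
    centerQuot α (QuotientGroup.mk x) = QuotientGroup.mk (α x) := rfl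

/-- an automorphism trivial modulo the centre is trivial, if there are no homomorphisms to the centre -/
theorem eq_one_of_trivial_mod_center (h0 : ∀ f : L →* center L, f = 1) (α : MulAut L)
    (hα : ∀ x : L, x⁻¹ * α x ∈ center L) : α = 1 := by
  let f : L →* center L :=
    { toFun := fun x => ⟨x⁻¹ * α x, hα x⟩
      map_one' := by
        apply Subtype.ext
        show (1 : L)⁻¹ * α 1 = 1
        rw [map_one, inv_one, one_mul]
      map_mul' := by
        intro x y
        apply Subtype.ext
        show (x * y)⁻¹ * α (x * y) = x⁻¹ * α x * (y⁻¹ * α y)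
        have h1 := mem_center_iff.1 (hα x) y⁻¹
        calc (x * y)⁻¹ * α (x * y) = y⁻¹ * (x⁻¹ * α x) * α y := by rw [map_mul]; group
          _ = x⁻¹ * α x * y⁻¹ * α y := by rw [h1]
          _ = x⁻¹ * α x * (y⁻¹ * α y) := by group }
  have hf := h0 f
  ext x
  have h1 : ((f x : center L) : L) = 1 := by rw [hf]; rfl
  have h2 : x⁻¹ * α x = 1 := h1
  rw [inv_mul_eq_one] at h2
  exact h2.symm

/-- a noninner automorphism of `L` induces a noninner automorphism of `L ⧸ center L` -/
theorem centerQuot_not_inner (h0 : ∀ f : L →* center L, f = 1) {α : MulAut L}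
    (hα : ∀ k : L, α ≠ MulAut.conj k) (q : L ⧸ center L) : centerQuot α ≠ MulAut.conj q := by
  intro h
  obtain ⟨k, rfl⟩ := QuotientGroup.mk_surjective q
  apply hα k
  have h1 : (MulAut.conj k)⁻¹ * α = 1 := by
    apply eq_one_of_trivial_mod_center h0
    intro x
    have h2 := congrArg (fun f : MulAut (L ⧸ center L) => f (QuotientGroup.mk x)) h
    simp only [MulAut.conj_apply] at h2
    rw [centerQuot_mk, ← QuotientGroup.mk_mul, ← QuotientGroup.mk_inv, ← QuotientGroup.mk_mul, eq_comm,
      QuotientGroup.eq] at h2
    have h3 : x⁻¹ * ((MulAut.conj k)⁻¹ * α) x = k⁻¹ * ((k * x * k⁻¹)⁻¹ * α x) * k := by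
      rw [← map_inv, MulAut.mul_apply, MulAut.conj_apply]
      group
    rw [h3]
    have h4 := mem_center_iff.1 h2 k
    have h5 : k⁻¹ * ((k * x * k⁻¹)⁻¹ * α x) * k = (k * x * k⁻¹)⁻¹ * α x := by
      rw [mul_assoc, ← h4]; group
    rw [h5]
    exact h2
  rw [inv_mul_eq_one] at h1
  exact h1.symm

/-- perfect groups have no homomorphism to an abelian group -/
theorem hom_center_eq_one_of_perfect (hp : commutator L = ⊤) (f : L →* center L) : f = 1 := by
  have h1 : commutator L ≤ f.ker := by
    rw [commutator_def, commutator_le]
    intro a _ b _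
    rw [MonoidHom.mem_ker, map_commutatorElement, commutatorElement_eq_one_iff_mul_comm]
    apply Subtype.ext
    exact (mem_center_iff.1 (f b).2 (f a : L))
  rw [hp] at h1
  ext x
  exact congrArg Subtype.val (h1 (mem_top x))

end Cfsg.Agent.H55.OutGen
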